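import Groth.Prelude.Def_W4c4chowquasisplitNorm
import Mathlib

set_option autoImplicit false
set_option maxHeartbeats 400000
set_option linter.style.haveILetI false

/-!
# The Chow group of a point and norms from finite extensions
-/

noncomputable section

universe u

open CategoryTheory AlgebraicGeometry

namespace Groth.Agent.H98Conorm

variable (k : Type u) [Field k]

/-- The field maps isomorphically to the residue field of a point of its spectrum. -/
def toResidue (x : Spec (CommRingCat.of k)) : k →+* (Spec (CommRingCat.of k)).residueField x :=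
  ((Scheme.ΓSpecIso (CommRingCat.of k)).inv ≫ (Spec (CommRingCat.of k)).Γevaluation x).hom

lemma toResidue_bijective (x : Spec (CommRingCat.of k)) : Function.Bijective (toResidue k x) := by
  haveI : x.asIdeal.IsMaximal := by
    rw [show x.asIdeal = ⊥ from (Ideal.eq_bot_or_top _).resolve_right x.isPrime.ne_top]
    exact Ideal.bot_isMaximal
  have h : toResidue k x =
      (Scheme.Spec.residueFieldIso (CommRingCat.of k) x).inv.hom.comp
        (algebraMap k x.asIdeal.ResidueField) := by
    have := congrArg CommRingCat.Hom.hom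
      (Scheme.Spec.algebraMap_residueFieldIso_inv (CommRingCat.of k) x)
    exact this.symm
  rw [h, RingHom.coe_comp]
  refine Function.Bijective.comp
    (ConcreteCategory.bijective_of_isIso (Scheme.Spec.residueFieldIso (CommRingCat.of k) x).inv)
    ⟨(algebraMap k x.asIdeal.ResidueField).injective, ?_⟩
  rw [IsScalarTower.algebraMap_eq k (k ⧸ x.asIdeal) x.asIdeal.ResidueField, RingHom.coe_comp]
  exact (Ideal.bijective_algebraMap_quotient_residueField _).2.comp Ideal.Quotient.mk_surjective

variable (F : Type u) [Field F] [Algebra k F]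

/-- The structure morphism of the spectrum of an extension. -/
abbrev str : Spec (CommRingCat.of F) ⟶ Spec (CommRingCat.of k) :=
  Spec.map (CommRingCat.ofHom (algebraMap k F))

lemma residueDegree_str (x : Spec (CommRingCat.of F)) :
    (str k F).residueDegree x = Module.finrank k F := by
  letI := ((str k F).residueFieldMap x).hom.toAlgebra
  refine (Algebra.finrank_eq_of_equiv_equiv (RingEquiv.ofBijective _ (toResidue_bijective k _))
    (RingEquiv.ofBijective _ (toResidue_bijective F x)) ?_).symm
  have h : (Scheme.ΓSpecIso (CommRingCat.of k)).inv ≫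
      (Spec (CommRingCat.of k)).Γevaluation (str k F x) ≫ (str k F).residueFieldMap x =
      CommRingCat.ofHom (algebraMap k F) ≫ (Scheme.ΓSpecIso (CommRingCat.of F)).inv ≫
        (Spec (CommRingCat.of F)).Γevaluation x := by
    rw [Scheme.Γevaluation_naturality, ← Category.assoc, ← Category.assoc]
    rw [Scheme.ΓSpecIso_inv_naturality]
  exact congrArg CommRingCat.Hom.hom h

/-- The point. -/
abbrev pt : Spec (CommRingCat.of k) := IsLocalRing.closedPoint k

lemma eq_pt (x : Spec (CommRingCat.of k)) : x = pt k :=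
  Subsingleton.elim (α := PrimeSpectrum k) x _

lemma mem_Zk (α : AlgebraicCycle (Spec (CommRingCat.of k)) ℤ) :
    α ∈ Cyc.Zk (Spec (CommRingCat.of k)) (fun _ => (0 : ℤ)) 0 :=
  fun _ h => absurd rfl h

lemma ratTriv_eq_bot : ChowOps.ratTriv (Spec (CommRingCat.of k)) (fun _ => (0 : ℤ)) 0 = ⊥ := by
  refine (AddSubgroup.closure_eq_bot_iff).mpr ?_
  rintro ⟨α, hα⟩ ⟨ι, ξ, f, hξ, -, -, h⟩
  refine Set.mem_singleton_iff.mpr (Subtype.ext (Function.locallyFinsuppWithin.ext fun x => ?_))
  have : IsEmpty ι := ⟨fun i => by simpa using hξ i⟩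
  exact (h x).trans (finsum_of_isEmpty _)

/-- The coefficient at the point. -/
def ev : ↥(ChowOps.zk (Spec (CommRingCat.of k)) (fun _ => (0 : ℤ)) 0) →+ ℤ where
  toFun a := a.1 (pt k)
  map_zero' := rfl
  map_add' _ _ := rfl

/-- The degree of a class. -/
def degHom : ChowOps.CH (Spec (CommRingCat.of k)) (fun _ => (0 : ℤ)) 0 →+ ℤ :=
  QuotientAddGroup.lift _ (ev k) (by rw [ratTriv_eq_bot]; exact bot_le)

lemma degHom_cl (α : AlgebraicCycle (Spec (CommRingCat.of k)) ℤ) (h) :
    degHom k (ChowOps.cl α h) = α (pt k) := rfl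

/-- The cycle `m` times the point. -/
def cyc (X : Scheme.{u}) [Finite X] (x : X) (m : ℤ) : AlgebraicCycle X ℤ where
  toFun := fun y => by classical exact if y = x then m else 0
  supportWithinDomain' := by simp
  supportLocallyFiniteWithinDomain' := fun z _ => ⟨Set.univ, Filter.univ_mem, Set.toFinite _⟩

instance finite_spec (L : Type u) [Field L] : Finite (Spec (CommRingCat.of L)) :=
  Finite.of_subsingleton (α := PrimeSpectrum L)

lemma degHom_bijective : Function.Bijective (degHom k) := by
  refine ⟨(injective_iff_map_eq_zero _).mpr fun c hc => ?_, fun m => ?_⟩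
  · obtain ⟨⟨α, hα⟩, rfl⟩ := QuotientAddGroup.mk'_surjective _ c
    have : (⟨α, hα⟩ : ↥(ChowOps.zk (Spec (CommRingCat.of k)) (fun _ => (0 : ℤ)) 0)) = 0 :=
      Subtype.ext (Function.locallyFinsuppWithin.ext fun x => by rw [eq_pt k x]; exact hc)
    rw [this, map_zero]
  · exact ⟨ChowOps.cl (cyc _ (pt k) m) (mem_Zk k _), by rw [degHom_cl]; simp [cyc]⟩

lemma map_str_apply (α : AlgebraicCycle (Spec (CommRingCat.of F)) ℤ) :
    AlgebraicCycle.map (str k F) (fun _ => (0 : ℤ)) (fun _ => (0 : ℤ)) α (pt k) =
      α (pt F) * Module.finrank k F := by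
  have hs : (str k F) ⁻¹' {pt k} = {pt F} :=
    Set.ext fun x => iff_of_true (eq_pt k _) (eq_pt F x)
  unfold AlgebraicCycle.map
  rw [Function.locallyFinsupp.map_apply, hs, finsum_mem_singleton]
  simp [AlgebraicCycle.mapCoeff, residueDegree_str]

variable (K : Type u) [Field K] [Algebra k K]

/-- The degrees of the finite proper subextensions. -/
def degrees : Set ℤ :=
  {d | ∃ F : IntermediateField k K, FiniteDimensional k F ∧ F ≠ ⊥ ∧ d = Module.finrank k F}

theorem ptNormSubgroup_eq :
    QsChow.ptNormSubgroup k K = (AddSubgroup.closure (degrees k K)).comap (degHom k) := by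
  refine le_antisymm ((AddSubgroup.closure_le _).mpr ?_) fun c hc => ?_
  · rintro _ ⟨F, hF, hne, α, h, rfl⟩
    show degHom k _ ∈ AddSubgroup.closure (degrees k K)
    rw [degHom_cl, map_str_apply k F α, ← smul_eq_mul]
    exact zsmul_mem (AddSubgroup.subset_closure
      (show ((Module.finrank k F : ℕ) : ℤ) ∈ degrees k K from ⟨F, hF, hne, rfl⟩)) _
  · obtain ⟨e, rfl⟩ : ∃ e : ℤ, (AddEquiv.ofBijective _ (degHom_bijective k)).symm e = c :=
      ⟨_, (AddEquiv.ofBijective _ (degHom_bijective k)).symm_apply_apply c⟩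
    have he : e ∈ AddSubgroup.closure (degrees k K) := by
      have hc' : degHom k _ ∈ AddSubgroup.closure (degrees k K) := hc
      rwa [show degHom k ((AddEquiv.ofBijective _ (degHom_bijective k)).symm e) = e from
        (AddEquiv.ofBijective _ (degHom_bijective k)).apply_symm_apply e] at hc'
    suffices AddSubgroup.closure (degrees k K) ≤
        (QsChow.ptNormSubgroup k K).comap (AddEquiv.ofBijective _ (degHom_bijective k)).symm.toAddMonoidHom
      from this he
    refine (AddSubgroup.closure_le _).mpr ?_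
    rintro d ⟨F, hF, hne, rfl⟩
    refine AddSubgroup.subset_closure ⟨F, hF, hne, cyc _ (pt F) 1, mem_Zk k _, ?_⟩
    refine (AddEquiv.ofBijective _ (degHom_bijective k)).injective ?_
    show (AddEquiv.ofBijective _ (degHom_bijective k))
      ((AddEquiv.ofBijective _ (degHom_bijective k)).symm _) = _
    rw [AddEquiv.apply_symm_apply]
    rw [AddEquiv.ofBijective_apply, degHom_cl, map_str_apply k F]
    simp [cyc]

lemma mem_degrees_of_index (L : IntermediateField k K) [FiniteDimensional k L] [IsGalois k L]
    (H : Subgroup (L ≃ₐ[k] L)) (hH : H.index ≠ 1) : (H.index : ℤ) ∈ degrees k K := by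
  let F := IntermediateField.fixedField H
  have h : Module.finrank k F = H.index := by
    have h1 := Module.finrank_mul_finrank k F L
    have h2 : Nat.card H = Module.finrank F L := (IntermediateField.finrank_fixedField_eq_card H).symm
    have h3 := H.card_mul_index
    rw [IsGalois.card_aut_eq_finrank, h2, mul_comm] at h3
    exact Nat.eq_of_mul_eq_mul_right Module.finrank_pos (h1.trans h3.symm)
  have h' : Module.finrank k (IntermediateField.lift F) = H.index := by
    rw [← h]; exact (IntermediateField.liftAlgEquiv F).toLinearEquiv.finrank_eq.symm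
  refine ⟨IntermediateField.lift F,
    Module.finite_of_finrank_pos (by rw [h']; exact Nat.pos_of_ne_zero H.index_ne_zero_of_finite),
    fun hb => ?_, by rw [h']⟩
  rw [hb, IntermediateField.finrank_bot] at h'
  exact hH h'.symm

theorem closure_degrees_eq_top (L : IntermediateField k K) [FiniteDimensional k L] [IsGalois k L]
    (hL : ∀ p n : ℕ, p.Prime → Module.finrank k L ≠ p ^ n) :
    AddSubgroup.closure (degrees k K) = ⊤ := by
  obtain ⟨d, hd⟩ := Int.subgroup_cyclic (AddSubgroup.closure (degrees k K))
  have hdvd : ∀ e ∈ degrees k K, d ∣ e := fun e he => by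
    have : e ∈ AddSubgroup.closure (degrees k K) := AddSubgroup.subset_closure he
    rw [hd, AddSubgroup.mem_closure_singleton] at this
    obtain ⟨m, rfl⟩ := this
    exact ⟨m, by simp [mul_comm]⟩
  have hN1 : Module.finrank k L ≠ 1 := by simpa using hL 2 0 Nat.prime_two
  have hN : d.natAbs ∣ Module.finrank k L := by
    refine Int.natAbs_dvd_natAbs.mpr (hdvd _ ⟨L, inferInstance, fun hb => hN1 ?_, rfl⟩)
    rw [hb]; exact IntermediateField.finrank_bot
  have h1 : d.natAbs = 1 := by
    by_contra hne
    obtain ⟨p, hp, hpd⟩ := Nat.exists_prime_and_dvd hne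
    haveI := Fact.mk hp
    let S : Sylow p (L ≃ₐ[k] L) := default
    have hcard : Nat.card (L ≃ₐ[k] L) = Module.finrank k L := IsGalois.card_aut_eq_finrank k L
    have hi : (S : Subgroup (L ≃ₐ[k] L)).index ≠ 1 := fun h => by
      obtain ⟨e, he⟩ := IsPGroup.iff_card.mp (Subgroup.index_eq_one.mp h ▸ S.isPGroup' :
        IsPGroup p (⊤ : Subgroup (L ≃ₐ[k] L)))
      rw [Subgroup.card_top, hcard] at he
      exact hL p e hp he
    exact S.not_dvd_index (hpd.trans (Int.natAbs_dvd_natAbs.mpr
      (hdvd _ (mem_degrees_of_index k K L _ hi))))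
  rw [hd, AddSubgroup.eq_top_iff']
  intro x
  rw [AddSubgroup.mem_closure_singleton]
  refine ⟨x * d, ?_⟩
  rcases Int.natAbs_eq d with h | h <;> rw [h, h1] <;> simp

theorem closure_degrees_eq_prime (L : IntermediateField k K) [FiniteDimensional k L] [IsGalois k L]
    (p n : ℕ) (hp : p.Prime) (hn : 1 ≤ n) (hL : Module.finrank k L = p ^ n)
    (hF : ∀ F : IntermediateField k K, FiniteDimensional k F → ∃ e : ℕ, Module.finrank k F = p ^ e) :
    AddSubgroup.closure (degrees k K) = AddSubgroup.zmultiples (p : ℤ) := by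
  haveI := Fact.mk hp
  refine le_antisymm ((AddSubgroup.closure_le _).mpr ?_) (AddSubgroup.zmultiples_le_of_mem ?_)
  · rintro _ ⟨F, hfin, hne, rfl⟩
    obtain ⟨e, he⟩ := hF F hfin
    rcases e with _ | e
    · exact absurd (IntermediateField.finrank_eq_one_iff.mp (by simpa using he)) hne
    · exact ⟨p ^ e, by show ((p : ℤ) ^ e) • (p : ℤ) = _; rw [he, smul_eq_mul, Nat.cast_pow, pow_succ]⟩
  · have hcard : Nat.card (L ≃ₐ[k] L) = p ^ n := hL ▸ IsGalois.card_aut_eq_finrank k L
    obtain ⟨H, hH⟩ := Sylow.exists_subgroup_card_pow_prime (G := L ≃ₐ[k] L) p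
      (n := n - 1) (hcard ▸ pow_dvd_pow p (by omega))
    have hi : H.index = p := by
      have h3 := H.card_mul_index
      rw [hH, hcard, show p ^ n = p ^ (n - 1) * p by rw [← pow_succ, Nat.sub_add_cancel hn]] at h3
      exact Nat.eq_of_mul_eq_mul_left (pow_pos hp.pos _) h3
    have := mem_degrees_of_index k K L H (hi ▸ hp.one_lt.ne')
    rw [hi] at this
    exact AddSubgroup.subset_closure this

theorem ptNormSubgroup_eq_top (L : IntermediateField k K) [FiniteDimensional k L] [IsGalois k L]
    (hL : ∀ p n : ℕ, p.Prime → Module.finrank k L ≠ p ^ n) : QsChow.ptNormSubgroup k K = ⊤ := by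
  rw [ptNormSubgroup_eq, closure_degrees_eq_top k K L hL, AddSubgroup.comap_top]

theorem ptNormSubgroup_index (L : IntermediateField k K) [FiniteDimensional k L] [IsGalois k L]
    (p n : ℕ) (hp : p.Prime) (hn : 1 ≤ n) (hL : Module.finrank k L = p ^ n)
    (hF : ∀ F : IntermediateField k K, FiniteDimensional k F → ∃ e : ℕ, Module.finrank k F = p ^ e) :
    (QsChow.ptNormSubgroup k K).index = p := by
  rw [ptNormSubgroup_eq, closure_degrees_eq_prime k K L p n hp hn hL hF,
    AddSubgroup.index_comap_of_surjective _ (degHom_bijective k).2, Int.index_zmultiples]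
  rfl

end Groth.Agent.H98Conorm
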