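import Groth.Prelude.Def_W4c4chowquasisplitNorm
import Groth.Agent.Cyc90.MayerVietoris

set_option autoImplicit false
set_option maxHeartbeats 400000

/-!
# Conormed Chow groups vanish for schemes over a proper finite subextension
-/

noncomputable section

universe u

open CategoryTheory Limits AlgebraicGeometry

namespace Groth.Agent.H98Conorm

variable {X Z : Scheme.{u}} (π : Z ⟶ X) (s : X ⟶ Z)

lemma residueDegree_retraction [IsClosedImmersion s] (h : s ≫ π = 𝟙 X) (x : X) :
    π.residueDegree (s x) = 1 := by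
  letI := (π.residueFieldMap (s x)).hom.toAlgebra
  change Module.finrank (X.residueField (π (s x))) (Z.residueField (s x)) = 1
  have hid : Function.Surjective ((s ≫ π).residueFieldMap x) := by
    rw [h]; intro b; exact ⟨b, by rw [Scheme.residueFieldMap_id]; rfl⟩
  rw [Scheme.residueFieldMap_comp] at hid
  have hs : Function.Surjective (π.residueFieldMap (s x)) := fun b => by
    obtain ⟨a, ha⟩ := hid (s.residueFieldMap x b)
    exact ⟨a, (s.residueFieldMap x).hom.injective ha⟩
  rw [← (AlgEquiv.ofBijective (Algebra.ofId (X.residueField (π (s x))) (Z.residueField (s x)))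
    ⟨RingHom.injective _, hs⟩).toLinearEquiv.finrank_eq]
  exact Module.finrank_self _

lemma map_retraction [QuasiCompact π] [IsClosedImmersion s] (h : s ≫ π = 𝟙 X) (δ : X → ℤ)
    (β : AlgebraicCycle X ℤ) :
    AlgebraicCycle.map π (δ ∘ ⇑π.base) δ
      (AlgebraicCycle.map s (fun w => (δ ∘ ⇑π.base) (s w)) (δ ∘ ⇑π.base) β) = β := by
  refine DFunLike.ext _ _ fun x => ?_
  have hx : ∀ y, π (s y) = y := fun y => by
    rw [← Scheme.Hom.comp_apply, h]; rfl
  rw [Cyc90.map_apply_eq, finsum_mem_eq_sum_of_inter_support_eq (s := π ⁻¹' {x}) (t := {s x}) _]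
  · rw [Finset.sum_singleton, Cyc90.map_closedImmersion_image, residueDegree_retraction π s h]
    simp [hx]
  · ext y
    constructor
    · rintro ⟨hy, hy'⟩
      by_cases hr : y ∈ Set.range s
      · obtain ⟨z, rfl⟩ := hr
        exact ⟨Finset.mem_coe.mpr (Finset.mem_singleton.mpr (by rw [← show π (s z) = x from hy, hx])), hy'⟩
      · exact absurd (by beta_reduce; rw [Cyc90.map_closedImmersion_notMem s _ β hr, zero_mul]) hy'
    · rintro ⟨hy, hy'⟩
      rw [Finset.coe_singleton, Set.mem_singleton_iff] at hy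
      exact ⟨by rw [hy]; exact hx x, hy'⟩

theorem normSubgroup_eq_top (k : Type u) [Field k] (K : Type u) [Field K] [Algebra k K]
    (F : IntermediateField k K) [FiniteDimensional k F] (hF : F ≠ ⊥)
    (X : Scheme.{u}) [X.Over (Spec (CommRingCat.of k))] (g : X ⟶ Spec (CommRingCat.of F))
    (hg : g ≫ Spec.map (CommRingCat.ofHom (algebraMap k F)) = X ↘ Spec (CommRingCat.of k))
    (δ : X → ℤ) (j : ℤ) : QsChow.normSubgroup k K X δ j = ⊤ := by
  let π := Curv2.bcFst k X F
  let s : X ⟶ Curv2.bc k X F := pullback.lift (𝟙 X) g (by rw [Category.id_comp, hg])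
  have h : s ≫ π = 𝟙 X := pullback.lift_fst _ _ _
  haveI : IsSeparated π := inferInstance
  haveI : IsClosedImmersion s := by
    haveI : IsClosedImmersion (s ≫ π) := h ▸ inferInstance
    exact IsClosedImmersion.of_comp s π
  refine top_le_iff.mp fun c _ => ?_
  obtain ⟨⟨β, hβ⟩, rfl⟩ := QuotientAddGroup.mk'_surjective _ c
  have hx : ∀ y, π (s y) = y := fun y => by
    rw [← Scheme.Hom.comp_apply, h]; rfl
  refine AddSubgroup.subset_closure
    ⟨F, inferInstance, hF, AlgebraicCycle.map s (fun w => (δ ∘ ⇑π.base) (s w)) (δ ∘ ⇑π.base) β,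
      ?_, ?_, ?_⟩
  · intro y hy
    by_cases hr : y ∈ Set.range s
    · obtain ⟨z, rfl⟩ := hr
      rw [Cyc90.map_closedImmersion_image]
      refine hβ z ?_
      have : (δ ∘ ⇑π.base) (s z) = δ z := congrArg δ (hx z)
      exact fun hz => hy (this.trans hz)
    · exact Cyc90.map_closedImmersion_notMem s _ β hr
  · rw [map_retraction π s h δ β]; exact hβ
  · exact congrArg _ (Subtype.ext (map_retraction π s h δ β).symm)

end Groth.Agent.H98Conorm
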